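import Mathlib
import Groth.Agent.H12.RGamHDI_A

/-!
# Local duality, abstract core (helper71)

`Θ K : HYI I K → Hom(Hom(K, W), T)` (pairing induced by functoriality of `HYI I` and a fixed
linear map `e : HYI I W → T`), its naturality, exactness of both sides on distinguished triangles
and the resulting two-out-of-three properties of `P K := ∀ j, Bijective (Θ (K⟦j⟧))`.
-/

set_option autoImplicit false
universe u v
open CategoryTheory CategoryTheory.Limits Opposite Pretriangulated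
attribute [local instance] HasDerivedCategory.standard

namespace Groth.Agent.H71.LD

open Groth.Agent.H12.RGamHDI DerivedCategory

variable {A : Type u} [CommRing A] (I : Ideal A)

section mapH

variable {K K' K'' : Dual.D A}

lemma mapH_comp (f : K ⟶ K') (g : K' ⟶ K'') (x : HYI I K) :
    (mapH I (f ≫ g)).hom x = (mapH I g).hom ((mapH I f).hom x) := by
  obtain ⟨n, y, rfl⟩ := exists_rep I K x
  rw [mapH_ι, mapH_ι, mapH_ι, Category.assoc]

lemma mapH_add (f g : K ⟶ K') (x : HYI I K) :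
    (mapH I (f + g)).hom x = (mapH I f).hom x + (mapH I g).hom x := by
  obtain ⟨n, y, rfl⟩ := exists_rep I K x
  rw [mapH_ι, mapH_ι, mapH_ι, Preadditive.comp_add, map_add]

lemma mapH_smul (a : A) (f : K ⟶ K') (x : HYI I K) :
    (mapH I (a • f)).hom x = a • (mapH I f).hom x := by
  obtain ⟨n, y, rfl⟩ := exists_rep I K x
  rw [mapH_ι, mapH_ι, Linear.comp_smul, map_smul]

lemma mapH_zero (x : HYI I K) : (mapH I (0 : K ⟶ K')).hom x = 0 := by
  obtain ⟨n, y, rfl⟩ := exists_rep I K x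
  rw [mapH_ι, comp_zero, map_zero]

lemma mapH_neg (f : K ⟶ K') (x : HYI I K) :
    (mapH I (-f)).hom x = -(mapH I f).hom x := by
  obtain ⟨n, y, rfl⟩ := exists_rep I K x
  rw [mapH_ι, mapH_ι, Preadditive.comp_neg, map_neg]

lemma mapH_id (x : HYI I K) : (mapH I (𝟙 K)).hom x = x := by
  obtain ⟨n, y, rfl⟩ := exists_rep I K x
  rw [mapH_ι, Category.comp_id]

/-- `HYI I` is exact in the middle of a distinguished triangle. -/
theorem F_exact (Tr : Triangle (Dual.D A)) (hTr : Tr ∈ distTriang (Dual.D A)) :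
    Function.Exact (mapH I Tr.mor₁).hom (mapH I Tr.mor₂).hom := by
  intro x
  constructor
  · intro hx
    obtain ⟨n, y, rfl⟩ := exists_rep I _ x
    rw [mapH_ι] at hx
    obtain ⟨m, h, hm⟩ := exists_res_eq_zero I _ n _ hx
    rw [← Category.assoc] at hm
    obtain ⟨z, hz⟩ := Triangle.coyoneda_exact₂ Tr hTr (tr I h ≫ y) hm
    refine ⟨ι I _ m z, ?_⟩
    rw [mapH_ι, ← hz, ι_res]
  · rintro ⟨z, rfl⟩
    rw [← mapH_comp, Pretriangulated.comp_distTriang_mor_zero₁₂ Tr hTr, mapH_zero]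

/-- every element of `HYI I K` is killed by a power of `I`. -/
theorem smul_eq_zero_of_mem_pow (x : HYI I K) : ∃ n : ℕ, ∀ a ∈ I ^ n, a • x = 0 := by
  obtain ⟨n, y, rfl⟩ := exists_rep I K x
  refine ⟨n, fun a ha => ?_⟩
  rw [← map_smul]
  have h0 : a • y = 0 := by
    have h1 : a • 𝟙 ((QDI I).obj (op n)) = 0 := by
      show a • 𝟙 ((singleFunctor (ModuleCat.{u} A) 0).obj
        ((localCohomology.ringModIdeals (localCohomology.idealPowersDiagram I)).obj (op n))) = 0
      have h2 : a • 𝟙 ((localCohomology.ringModIdeals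
          (localCohomology.idealPowersDiagram I)).obj (op n)) = 0 := by
        refine ModuleCat.hom_ext (LinearMap.ext fun q => ?_)
        obtain ⟨r, rfl⟩ := Ideal.Quotient.mk_surjective q
        show a • (Ideal.Quotient.mk _ r) = 0
        rw [← Ideal.Quotient.mk_eq_mk, ← Submodule.Quotient.mk_smul, Submodule.Quotient.mk_eq_zero,
          smul_eq_mul]
        exact Ideal.mul_mem_right r _ ha
      have h4 : a • 𝟙 ((singleFunctor (ModuleCat.{u} A) 0).obj
          ((localCohomology.ringModIdeals (localCohomology.idealPowersDiagram I)).obj (op n))) =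
          (singleFunctor (ModuleCat.{u} A) 0).map (a • 𝟙 ((localCohomology.ringModIdeals
          (localCohomology.idealPowersDiagram I)).obj (op n))) := by
        rw [Functor.map_smul, CategoryTheory.Functor.map_id]
      rw [h4, h2, Functor.map_zero]
    have h3 : a • y = (a • 𝟙 _) ≫ y := by rw [Linear.smul_comp, Category.id_comp]
    rw [h3, h1, zero_comp]
  rw [h0, map_zero]

end mapH

section Theta

variable (W : Dual.D A) {T : Type v} [AddCommGroup T] [Module A T] (e : HYI I W →ₗ[A] T)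

/-- the pairing map. -/
noncomputable def Θ (K : Dual.D A) : HYI I K →ₗ[A] ((K ⟶ W) →ₗ[A] T) :=
  LinearMap.mk₂ A (fun x φ => e ((mapH I φ).hom x))
    (fun x x' φ => by rw [map_add, map_add])
    (fun a x φ => by rw [map_smul, map_smul])
    (fun x φ φ' => by rw [mapH_add, map_add])
    (fun a x φ => by rw [mapH_smul, map_smul])

lemma Θ_apply (K : Dual.D A) (x : HYI I K) (φ : K ⟶ W) :
    Θ I W e K x φ = e ((mapH I φ).hom x) := rfl

variable (T) in
/-- the functoriality of the dual side. -/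
noncomputable def Gmap {K K' : Dual.D A} (f : K ⟶ K') :
    ((K ⟶ W) →ₗ[A] T) →ₗ[A] ((K' ⟶ W) →ₗ[A] T) :=
  LinearMap.lcomp A T (Linear.leftComp A W f)

lemma Gmap_apply {K K' : Dual.D A} (f : K ⟶ K') (ψ : (K ⟶ W) →ₗ[A] T) (φ : K' ⟶ W) :
    Gmap W T f ψ φ = ψ (f ≫ φ) := rfl

lemma Θ_nat {K K' : Dual.D A} (f : K ⟶ K') (x : HYI I K) :
    Θ I W e K' ((mapH I f).hom x) = Gmap W T f (Θ I W e K x) := by
  refine LinearMap.ext fun φ => ?_
  rw [Θ_apply, Gmap_apply, Θ_apply, mapH_comp]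

lemma Θ_nat' {K K' : Dual.D A} (f : K ⟶ K') :
    (Gmap W T f).comp (Θ I W e K) = (Θ I W e K').comp (mapH I f).hom :=
  LinearMap.ext fun x => (Θ_nat I W e f x).symm

lemma Gmap_comp {K K' K'' : Dual.D A} (f : K ⟶ K') (g : K' ⟶ K'') (ψ : (K ⟶ W) →ₗ[A] T) :
    Gmap W T (f ≫ g) ψ = Gmap W T g (Gmap W T f ψ) := by
  refine LinearMap.ext fun φ => ?_
  rw [Gmap_apply, Gmap_apply, Gmap_apply, Category.assoc]

lemma Gmap_id {K : Dual.D A} (ψ : (K ⟶ W) →ₗ[A] T) : Gmap W T (𝟙 K) ψ = ψ := by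
  refine LinearMap.ext fun φ => ?_
  rw [Gmap_apply, Category.id_comp]

lemma Gmap_zero {K K' : Dual.D A} (ψ : (K ⟶ W) →ₗ[A] T) : Gmap W T (0 : K ⟶ K') ψ = 0 := by
  refine LinearMap.ext fun φ => ?_
  rw [Gmap_apply, zero_comp, map_zero, LinearMap.zero_apply]

lemma Gmap_smul {K K' : Dual.D A} (a : A) (f : K ⟶ K') (ψ : (K ⟶ W) →ₗ[A] T) :
    Gmap W T (a • f) ψ = a • Gmap W T f ψ := by
  refine LinearMap.ext fun φ => ?_
  rw [Gmap_apply, LinearMap.smul_apply, Gmap_apply, Linear.smul_comp, map_smul]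

lemma Gmap_neg {K K' : Dual.D A} (f : K ⟶ K') (ψ : (K ⟶ W) →ₗ[A] T) :
    Gmap W T (-f) ψ = - Gmap W T f ψ := by
  refine LinearMap.ext fun φ => ?_
  rw [Gmap_apply, LinearMap.neg_apply, Gmap_apply, Preadditive.neg_comp, map_neg]

lemma Gmap_bijective_of_iso {K K' : Dual.D A} (i : K ≅ K') :
    Function.Bijective (Gmap W T i.hom) := by
  refine Function.bijective_iff_has_inverse.2 ⟨Gmap W T i.inv, fun ψ => ?_, fun ψ => ?_⟩
  · rw [← Gmap_comp, i.hom_inv_id, Gmap_id]
  · rw [← Gmap_comp, i.inv_hom_id, Gmap_id]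

/-- extension lemma for injective modules. -/
lemma exists_factor [Small.{v} A] [Module.Injective A T] {X Y : Type*} [AddCommGroup X] [Module A X]
    [AddCommGroup Y] [Module A Y] (p : X →ₗ[A] Y) (ψ : X →ₗ[A] T)
    (h : LinearMap.ker p ≤ LinearMap.ker ψ) : ∃ ψ₁ : Y →ₗ[A] T, ψ₁.comp p = ψ := by
  let ψbar : LinearMap.range p →ₗ[A] T :=
    ((LinearMap.ker p).liftQ ψ h).comp (p.quotKerEquivRange.symm.toLinearMap)
  obtain ⟨ψ₁, hψ₁⟩ := Module.Injective.extension_property A T _ _ (LinearMap.range p).subtype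
    (Submodule.injective_subtype _) ψbar
  refine ⟨ψ₁, LinearMap.ext fun x => ?_⟩
  have h1 := LinearMap.congr_fun hψ₁ ⟨p x, LinearMap.mem_range_self p x⟩
  rw [LinearMap.comp_apply] at h1 ⊢
  rw [Submodule.subtype_apply] at h1
  rw [h1]
  show ((LinearMap.ker p).liftQ ψ h) (p.quotKerEquivRange.symm ⟨p x, _⟩) = ψ x
  have h2 : p.quotKerEquivRange.symm ⟨p x, LinearMap.mem_range_self p x⟩ =
      Submodule.Quotient.mk x := by
    rw [LinearEquiv.symm_apply_eq]
    rfl
  rw [h2, Submodule.liftQ_apply]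

/-- the dual side is exact in the middle of a distinguished triangle. -/
theorem G_exact [Small.{v} A] [Module.Injective A T] (Tr : Triangle (Dual.D A))
    (hTr : Tr ∈ distTriang (Dual.D A)) :
    Function.Exact (Gmap W T Tr.mor₁) (Gmap W T Tr.mor₂) := by
  intro ψ
  constructor
  · intro hψ
    have hker : LinearMap.ker (Linear.leftComp A W Tr.mor₁) ≤ LinearMap.ker ψ := by
      intro φ hφ
      rw [LinearMap.mem_ker] at hφ ⊢
      have hφ' : Tr.mor₁ ≫ φ = 0 := hφ
      obtain ⟨φ', hφ'⟩ := Triangle.yoneda_exact₂ Tr hTr φ hφ'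
      rw [hφ']
      have := LinearMap.congr_fun hψ φ'
      rw [Gmap_apply] at this
      exact this
    obtain ⟨ψ₁, hψ₁⟩ := exists_factor (Linear.leftComp A W Tr.mor₁) ψ hker
    exact ⟨ψ₁, hψ₁⟩
  · rintro ⟨ψ₁, rfl⟩
    rw [← Gmap_comp, Pretriangulated.comp_distTriang_mor_zero₁₂ Tr hTr, Gmap_zero]

end Theta

end Groth.Agent.H71.LD
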