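import Mathlib
import Groth.Agent.H71.LD.Core

/-!
# Local duality, abstract core II (helper71): two-out-of-three and the limit argument
-/

set_option autoImplicit false
universe u v
open CategoryTheory CategoryTheory.Limits Opposite Pretriangulated
attribute [local instance] HasDerivedCategory.standard

namespace Groth.Agent.H71.LD

open Groth.Agent.H12.RGamHDI DerivedCategory

variable {A : Type u} [CommRing A] (I : Ideal A)
variable (W : Dual.D A) {T : Type v} [AddCommGroup T] [Module A T] (e : HYI I W →ₗ[A] T)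

theorem bij_iso {K K' : Dual.D A} (i : K ≅ K') (h : Function.Bijective (Θ I W e K)) :
    Function.Bijective (Θ I W e K') := by
  have h1 : (Θ I W e K') ∘ (mapH I i.hom).hom = (Gmap W T i.hom) ∘ (Θ I W e K) := by
    funext x; exact Θ_nat I W e i.hom x
  have h2 : Function.Bijective ((Θ I W e K') ∘ (mapH I i.hom).hom) := by
    rw [h1]; exact (Gmap_bijective_of_iso W i).comp h
  exact (Function.Bijective.of_comp_iff _ (mapH_bijective_of_iso I i)).1 h2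

theorem bij_third [Small.{v} A] [Module.Injective A T] (Tr : Triangle (Dual.D A))
    (hTr : Tr ∈ distTriang (Dual.D A))
    (h1 : Function.Surjective (Θ I W e Tr.obj₁)) (h2 : Function.Bijective (Θ I W e Tr.obj₂))
    (h4 : Function.Bijective (Θ I W e (Tr.obj₁⟦(1 : ℤ)⟧)))
    (h5 : Function.Injective (Θ I W e (Tr.obj₂⟦(1 : ℤ)⟧))) :
    Function.Bijective (Θ I W e Tr.obj₃) := by
  have hr := rot_of_distTriang _ hTr
  have hrr := rot_of_distTriang _ hr
  exact LinearMap.bijective_of_surjective_of_bijective_of_bijective_of_injective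
    (mapH I Tr.mor₁).hom (mapH I Tr.mor₂).hom (mapH I Tr.mor₃).hom
    (mapH I Tr.rotate.rotate.mor₂).hom
    (Gmap W T Tr.mor₁) (Gmap W T Tr.mor₂) (Gmap W T Tr.mor₃) (Gmap W T Tr.rotate.rotate.mor₂)
    (Θ I W e _) (Θ I W e _) (Θ I W e _) (Θ I W e _) (Θ I W e _)
    (Θ_nat' I W e _) (Θ_nat' I W e _) (Θ_nat' I W e _) (Θ_nat' I W e _)
    (F_exact I Tr hTr) (F_exact I _ hr) (F_exact I _ hrr)
    (G_exact W Tr hTr) (G_exact W _ hr) (G_exact W _ hrr)
    h1 h2 h4 h5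

/-- the property: the pairing map is bijective for all shifts. -/
def P (K : Dual.D A) : Prop := ∀ j : ℤ, Function.Bijective (Θ I W e (K⟦j⟧))

variable {I W e}

theorem P_iso {K K' : Dual.D A} (i : K ≅ K') (h : P I W e K) : P I W e K' :=
  fun j => bij_iso I W e ((shiftFunctor (Dual.D A) j).mapIso i) (h j)

theorem P_shift {K : Dual.D A} (h : P I W e K) (a : ℤ) : P I W e (K⟦a⟧) :=
  fun j => bij_iso I W e ((shiftFunctorAdd' (Dual.D A) a j (a + j) rfl).app K) (h (a + j))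

theorem P_third [Small.{v} A] [Module.Injective A T] (Tr : Triangle (Dual.D A))
    (hTr : Tr ∈ distTriang (Dual.D A)) (h1 : P I W e Tr.obj₁) (h2 : P I W e Tr.obj₂) :
    P I W e Tr.obj₃ := by
  intro j
  have hs := Triangle.shift_distinguished Tr hTr j
  refine bij_third I W e _ hs (h1 j).surjective (h2 j) ?_ ?_
  · exact bij_iso I W e ((shiftFunctorAdd' (Dual.D A) j 1 (j + 1) rfl).app Tr.obj₁) (h1 (j + 1))
  · exact (bij_iso I W e ((shiftFunctorAdd' (Dual.D A) j 1 (j + 1) rfl).app Tr.obj₂)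
      (h2 (j + 1))).injective

theorem P_middle [Small.{v} A] [Module.Injective A T] (Tr : Triangle (Dual.D A))
    (hTr : Tr ∈ distTriang (Dual.D A)) (h1 : P I W e Tr.obj₁) (h3 : P I W e Tr.obj₃) :
    P I W e Tr.obj₂ :=
  P_third Tr.invRotate (inv_rot_of_distTriang _ hTr) (P_shift h3 (-1)) h1

theorem P_of_isZero {K : Dual.D A} (hK : IsZero K) : P I W e K := by
  intro j
  have hz : IsZero (K⟦j⟧) := (shiftFunctor (Dual.D A) j).map_isZero hK
  constructor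
  · intro x x' _
    have h0 : ∀ z : HYI I (K⟦j⟧), z = 0 := by
      intro z
      obtain ⟨n, y, rfl⟩ := exists_rep I _ z
      rw [hz.eq_of_tgt y 0, map_zero]
    rw [h0 x, h0 x']
  · intro ψ
    refine ⟨0, ?_⟩
    rw [map_zero]
    refine LinearMap.ext fun φ => ?_
    rw [hz.eq_of_src φ 0]
    simp

section PM

/-- a morphism which is `± a • 𝟙`. -/
def IsPM (a : A) {L : Dual.D A} (f : L ⟶ L) : Prop := f = a • 𝟙 L ∨ f = -(a • 𝟙 L)

lemma IsPM.neg {a : A} {L : Dual.D A} {f : L ⟶ L} (h : IsPM a f) : IsPM a (-f) := by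
  rcases h with h | h
  · exact Or.inr (by rw [h])
  · exact Or.inl (by rw [h, neg_neg])

lemma IsPM.shift {a : A} {L : Dual.D A} {f : L ⟶ L} (h : IsPM a f) (j : ℤ) : IsPM a (f⟦j⟧') := by
  rcases h with h | h
  · exact Or.inl (by rw [h, Functor.map_smul, CategoryTheory.Functor.map_id])
  · exact Or.inr (by rw [h, Functor.map_neg, Functor.map_smul, CategoryTheory.Functor.map_id])

lemma IsPM.units_smul {a : A} {L : Dual.D A} {f : L ⟶ L} (h : IsPM a f) (j : ℤ) :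
    IsPM a (j.negOnePow • f) := by
  rcases Int.even_or_odd j with hj | hj
  · rw [Int.negOnePow_even j hj, one_smul]; exact h
  · rw [Int.negOnePow_odd j hj, Units.neg_smul, one_smul]; exact h.neg

lemma IsPM.mapH_eq_zero {a : A} {L : Dual.D A} {f : L ⟶ L} (h : IsPM a f) (y : HYI I L)
    (hy : a • y = 0) : (mapH I f).hom y = 0 := by
  rcases h with h | h
  · rw [h, mapH_smul, mapH_id, hy]
  · rw [h, mapH_neg, mapH_smul, mapH_id, hy, neg_zero]

lemma IsPM.Gmap_eq_zero {a : A} {L : Dual.D A} {f : L ⟶ L} (h : IsPM a f)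
    (ψ : (L ⟶ W) →ₗ[A] T) (hψ : a • ψ = 0) : Gmap W T f ψ = 0 := by
  rcases h with h | h
  · rw [h, Gmap_smul, Gmap_id, hψ]
  · rw [h, Gmap_neg, Gmap_smul, Gmap_id, hψ, neg_zero]

end PM

/-- one step: surjectivity on the shifted object. -/
theorem surj_step [Small.{v} A] [Module.Injective A T] (S : Triangle (Dual.D A))
    (hS : S ∈ distTriang (Dual.D A)) (a : A) (hob : S.obj₂ = S.obj₁)
    (hm : IsPM a (S.mor₁ ≫ eqToHom hob))
    (hC : Function.Surjective (Θ I W e S.obj₃))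
    (ψ : (S.obj₁⟦(1 : ℤ)⟧ ⟶ W) →ₗ[A] T) (hψ : a • ψ = 0) :
    ∃ y, Θ I W e (S.obj₁⟦(1 : ℤ)⟧) y = ψ := by
  obtain ⟨S₁, S₂, S₃, m₁, m₂, m₃⟩ := S
  dsimp only at hob hm hC ψ hψ ⊢
  subst hob
  rw [eqToHom_refl, Category.comp_id] at hm
  have hrr := rot_of_distTriang _ (rot_of_distTriang _ hS)
  have hm' : IsPM a (-(m₁⟦(1 : ℤ)⟧')) := (hm.shift 1).neg
  have h0 : Gmap W T (-(m₁⟦(1 : ℤ)⟧')) ψ = 0 := hm'.Gmap_eq_zero ψ hψ
  have hexG : Function.Exact (Gmap W T m₃) (Gmap W T (-(m₁⟦(1 : ℤ)⟧'))) := G_exact W _ hrr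
  obtain ⟨ψ', hψ'⟩ := (hexG ψ).1 h0
  obtain ⟨b, hb⟩ := hC ψ'
  refine ⟨(mapH I m₃).hom b, ?_⟩
  rw [Θ_nat, hb]
  exact hψ'

/-- one step: injectivity on the shifted object. -/
theorem inj_step [Small.{v} A] [Module.Injective A T] (S : Triangle (Dual.D A))
    (hS : S ∈ distTriang (Dual.D A)) (a : A) (hob : S.obj₂ = S.obj₁)
    (hm : IsPM a (S.mor₁ ≫ eqToHom hob))
    (hC : Function.Injective (Θ I W e S.obj₃))
    (hL : Function.Surjective (Θ I W e S.obj₂))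
    (y : HYI I (S.obj₁⟦(1 : ℤ)⟧)) (hy : a • y = 0) (hΘ : Θ I W e (S.obj₁⟦(1 : ℤ)⟧) y = 0) :
    y = 0 := by
  obtain ⟨S₁, S₂, S₃, m₁, m₂, m₃⟩ := S
  dsimp only at hob hm hC hL y hy hΘ ⊢
  subst hob
  rw [eqToHom_refl, Category.comp_id] at hm
  have hr := rot_of_distTriang _ hS
  have hrr := rot_of_distTriang _ hr
  have hm' : IsPM a (-(m₁⟦(1 : ℤ)⟧')) := (hm.shift 1).neg
  have h0 : (mapH I (-(m₁⟦(1 : ℤ)⟧'))).hom y = 0 := hm'.mapH_eq_zero y hy
  have hexF : Function.Exact (mapH I m₃).hom (mapH I (-(m₁⟦(1 : ℤ)⟧'))).hom := F_exact I _ hrr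
  have hexG : Function.Exact (Gmap W T m₂) (Gmap W T m₃) := G_exact W _ hr
  obtain ⟨b, hb'⟩ := (hexF y).1 h0
  have h1 : Gmap W T m₃ (Θ I W e S₃ b) = 0 := by
    rw [← Θ_nat, hb', hΘ]
  obtain ⟨c, hc'⟩ := (hexG (Θ I W e S₃ b)).1 h1
  obtain ⟨d, hd⟩ := hL c
  have h2 : Θ I W e S₃ ((mapH I m₂).hom d) = Θ I W e S₃ b := by
    rw [Θ_nat, hd, hc']
  have h3 := hC h2
  rw [← hb', ← h3, ← mapH_comp]
  have : m₂ ≫ m₃ = 0 := comp_distTriang_mor_zero₂₃ _ hS
  rw [this, mapH_zero]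

/-- **The limit argument.** If `P` holds for the cones of all `x^(k+1)` on `K`, the source is
`x`-power torsion (automatic when `x ∈ I`) and the target is `x`-power torsion, then `P K`. -/
theorem P_of_cones [Small.{v} A] [Module.Injective A T] (K : Dual.D A) (x : A) (hx : x ∈ I)
    (C : ℕ → Dual.D A) (g : ∀ k, K ⟶ C k) (h : ∀ k, C k ⟶ K⟦(1 : ℤ)⟧)
    (hd : ∀ k, Triangle.mk (x ^ (k + 1) • 𝟙 K) (g k) (h k) ∈ distTriang (Dual.D A))
    (hC : ∀ k, P I W e (C k))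
    (hG : ∀ (j : ℤ) (ψ : (K⟦j⟧ ⟶ W) →ₗ[A] T), ∃ k : ℕ, x ^ (k + 1) • ψ = 0) : P I W e K := by
  -- torsion on the source side
  have hF : ∀ (L : Dual.D A) (y : HYI I L), ∃ k : ℕ, x ^ (k + 1) • y = 0 := by
    intro L y
    obtain ⟨n, hn⟩ := smul_eq_zero_of_mem_pow I y
    exact ⟨n, hn _ (Ideal.pow_le_pow_right (Nat.le_succ n) (Ideal.pow_mem_pow hx (n + 1)))⟩
  -- the shifted triangles
  have key : ∀ (j : ℤ) (k : ℕ), ∃ S : Triangle (Dual.D A), S ∈ distTriang (Dual.D A) ∧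
      ∃ (h1 : S.obj₁ = K⟦j⟧) (h2 : S.obj₂ = S.obj₁), S.obj₃ = (C k)⟦j⟧ ∧
        IsPM (x ^ (k + 1)) (S.mor₁ ≫ eqToHom h2) := by
    intro j k
    refine ⟨_, Triangle.shift_distinguished _ (hd k) j, rfl, rfl, rfl, ?_⟩
    show IsPM (x ^ (k + 1)) ((j.negOnePow • (x ^ (k + 1) • 𝟙 K)⟦j⟧') ≫ 𝟙 _)
    rw [Category.comp_id]
    have h0 : IsPM (x ^ (k + 1)) (x ^ (k + 1) • 𝟙 K) := Or.inl rfl
    exact (h0.shift j).units_smul j
  -- surjectivity for all shifts
  have hsurj : ∀ j : ℤ, Function.Surjective (Θ I W e (K⟦j⟧)) := by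
    intro j ψ
    let i := (shiftFunctorAdd' (Dual.D A) (j - 1) 1 j (by omega)).app K
    -- transport to `K⟦j-1⟧⟦1⟧`
    obtain ⟨k, hk⟩ := hG j ψ
    obtain ⟨S, hS, h1, h2, h3, hm⟩ := key (j - 1) k
    obtain ⟨S₁, S₂, S₃, m₁, m₂, m₃⟩ := S
    dsimp only at h1 h2 h3 hm
    subst h1 h3
    have hψ' : x ^ (k + 1) • (Gmap W T i.hom ψ) = 0 := by
      rw [← map_smul, hk, map_zero]
    obtain ⟨y, hy⟩ := surj_step (I := I) (W := W) (e := e) _ hS (x ^ (k + 1)) h2 hm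
      ((hC k (j - 1)).surjective) (Gmap W T i.hom ψ) hψ'
    refine ⟨(mapH I i.inv).hom y, ?_⟩
    have e1 : Θ I W e (K⟦j⟧) ((mapH I i.inv).hom y) = Gmap W T i.inv (Θ I W e _ y) :=
      Θ_nat I W e i.inv y
    have e2 : Gmap W T i.inv (Θ I W e _ y) = Gmap W T i.inv (Gmap W T i.hom ψ) :=
      congrArg _ hy
    exact e1.trans (e2.trans (by rw [← Gmap_comp, i.hom_inv_id, Gmap_id]))
  intro j
  refine ⟨?_, hsurj j⟩
  refine (injective_iff_map_eq_zero _).2 (fun y hy => ?_)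
  let i := (shiftFunctorAdd' (Dual.D A) (j - 1) 1 j (by omega)).app K
  obtain ⟨k, hk⟩ := hF _ ((mapH I i.hom).hom y)
  obtain ⟨S, hS, h1, h2, h3, hm⟩ := key (j - 1) k
  obtain ⟨S₁, S₂, S₃, m₁, m₂, m₃⟩ := S
  dsimp only at h1 h2 h3 hm
  subst h1 h3
  have hL : Function.Surjective (Θ I W e S₂) := by
    subst h2
    exact hsurj (j - 1)
  have hΘ : Θ I W e _ ((mapH I i.hom).hom y) = 0 := by
    rw [Θ_nat, hy, map_zero]
  have h0 := inj_step (I := I) (W := W) (e := e) _ hS (x ^ (k + 1)) h2 hm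
    ((hC k (j - 1)).injective) hL _ hk hΘ
  have := congrArg (mapH I i.inv).hom h0
  rw [← mapH_comp, i.hom_inv_id, mapH_id, map_zero] at this
  exact this

end Groth.Agent.H71.LD
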