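import Mathlib
import Groth.Agent.H71.LD.Core2
import Groth.Agent.H82.TorFlat
import Groth.Agent.H35.LD_ShiftEq
import Groth.Agent.H42.LDDev

/-!
# Local duality: module level assembly (helper71)
-/

set_option autoImplicit false
universe u v
open CategoryTheory CategoryTheory.Limits Opposite Pretriangulated
attribute [local instance] HasDerivedCategory.standard

namespace Groth.Agent.H71.LD

open Groth.Agent.H12.RGamHDI DerivedCategory IsLocalRing Pointwise

/-- a linear map from a finite module to a module in which every element is killed by a power of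
`x` is killed by a power of `x`. -/
lemma exists_pow_smul_eq_zero {A : Type u} [CommRing A] {X : Type*} [AddCommGroup X] [Module A X]
    [Module.Finite A X] {E : Type*} [AddCommGroup E] [Module A E] (x : A)
    (hE : ∀ z : E, ∃ n : ℕ, x ^ n • z = 0) (ψ : X →ₗ[A] E) : ∃ k : ℕ, x ^ (k + 1) • ψ = 0 := by
  classical
  obtain ⟨s, hs⟩ := (Module.Finite.fg_top : (⊤ : Submodule A X).FG)
  choose n hn using fun t => hE (ψ t)
  refine ⟨s.sup n, ?_⟩
  refine LinearMap.ext_on hs (fun t ht => ?_)
  rw [LinearMap.smul_apply, LinearMap.zero_apply]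
  have hle : n t ≤ s.sup n + 1 := (Finset.le_sup ht).trans (Nat.le_succ _)
  obtain ⟨c, hc⟩ := Nat.exists_eq_add_of_le hle
  rw [hc, add_comm, pow_add, mul_smul, hn, smul_zero]

section Assembly

variable {A : Type u} [CommRing A] [IsLocalRing A] [IsNoetherianRing A]
  (ω : Dual.D A)
  {E : Type u} [AddCommGroup E] [Module A E]
  (e : HYI (maximalIdeal A) (ω⟦(0 : ℤ)⟧) →ₗ[A] E)

/-- the duality property for a module. -/
def PM (M : Type u) [AddCommGroup M] [Module A M] : Prop :=
  P (maximalIdeal A) (ω⟦(0 : ℤ)⟧) e (Dual.inD A M)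

theorem PM_zero (M : Type u) [AddCommGroup M] [Module A M] [Subsingleton M] : PM ω e M := by
  have h0 : IsZero (ModuleCat.of A M) := ModuleCat.isZero_of_subsingleton _
  exact P_of_isZero ((singleFunctor (ModuleCat.{u} A) 0).map_isZero h0)

theorem PM_ext [Module.Injective A E] (M₁ M₂ M₃ : Type u) [AddCommGroup M₁] [Module A M₁]
    [AddCommGroup M₂] [Module A M₂] [AddCommGroup M₃] [Module A M₃] (f : M₁ →ₗ[A] M₂)
    (g : M₂ →ₗ[A] M₃) (hf : Function.Injective f) (hg : Function.Surjective g)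
    (hfg : Function.Exact f g) (h1 : PM ω e M₁) (h3 : PM ω e M₃) : PM ω e M₂ := by
  have hS := Groth.Agent.H82.TorFlat.shortExact_of f g hf hg hfg
  have h := P_middle (I := maximalIdeal A) (W := ω⟦(0 : ℤ)⟧) (e := e) hS.singleTriangle
    hS.singleTriangle_distinguished h1 h3
  exact h

theorem PM_reg [Module.Injective A E] (hω : Dual.IsDualizing A ω)
    (hE : LocCoh.IsPowerTorsion (maximalIdeal A) E)
    (M : Type u) [AddCommGroup M] [Module A M] [Module.Finite A M] (x : A)
    (hx : x ∈ maximalIdeal A) (hreg : IsSMulRegular M x)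
    (hk : ∀ k : ℕ, 0 < k → PM ω e (M ⧸ (Ideal.span {x ^ k} • (⊤ : Submodule A M)))) :
    PM ω e M := by
  have hex : ∀ k : ℕ, Function.Exact (LinearMap.lsmul A M (x ^ (k + 1)))
      (Ideal.span {x ^ (k + 1)} • (⊤ : Submodule A M)).mkQ := by
    intro k
    rw [LinearMap.exact_iff, Submodule.ker_mkQ, Submodule.ideal_span_singleton_smul]
    ext y
    rw [Submodule.mem_smul_pointwise_iff_exists, LinearMap.mem_range]
    constructor
    · rintro ⟨s, -, rfl⟩
      exact ⟨s, rfl⟩
    · rintro ⟨s, rfl⟩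
      exact ⟨s, Submodule.mem_top, rfl⟩
  have hS := fun k : ℕ => Groth.Agent.H82.TorFlat.shortExact_of
    (LinearMap.lsmul A M (x ^ (k + 1))) (Ideal.span {x ^ (k + 1)} • (⊤ : Submodule A M)).mkQ
    (hreg.pow (k + 1)) (Submodule.mkQ_surjective _) (hex k)
  have hmor : ∀ k : ℕ, (singleFunctor (ModuleCat.{u} A) 0).map
      (ModuleCat.ofHom (LinearMap.lsmul A M (x ^ (k + 1)))) = x ^ (k + 1) • 𝟙 (Dual.inD A M) := by
    intro k
    have h0 : ModuleCat.ofHom (LinearMap.lsmul A M (x ^ (k + 1))) =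
        x ^ (k + 1) • 𝟙 (ModuleCat.of A M) := by
      refine ModuleCat.hom_ext (LinearMap.ext fun y => ?_)
      rfl
    rw [h0, Functor.map_smul, CategoryTheory.Functor.map_id]
  have htors : ∀ z : E, ∃ n : ℕ, x ^ n • z = 0 := by
    intro z
    obtain ⟨n, hn⟩ := hE z
    exact ⟨n, hn _ (Ideal.pow_mem_pow hx n)⟩
  refine P_of_cones (Dual.inD A M) x hx
    (fun k => Dual.inD A (M ⧸ (Ideal.span {x ^ (k + 1)} • (⊤ : Submodule A M))))
    (fun k => (hS k).singleTriangle.mor₂) (fun k => (hS k).singleTriangle.mor₃) ?_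
    (fun k => hk (k + 1) (Nat.succ_pos k)) ?_
  · intro k
    have h0 := (hS k).singleTriangle_distinguished
    have h1 : (hS k).singleTriangle = Triangle.mk (x ^ (k + 1) • 𝟙 (Dual.inD A M))
        (hS k).singleTriangle.mor₂ (hS k).singleTriangle.mor₃ := by
      rw [← hmor k]
      rfl
    exact h1 ▸ h0
  · intro j ψ
    haveI : Module.Finite A ((Dual.inD A M)⟦j⟧ ⟶ ω⟦(0 : ℤ)⟧) :=
      Groth.Agent.LDS.finite_hom A ω hω M j
    exact exists_pow_smul_eq_zero x htors ψ

theorem PM_all [Module.Injective A E] (hω : Dual.IsDualizing A ω)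
    (hE : LocCoh.IsPowerTorsion (maximalIdeal A) E)
    (h_res : PM ω e (A ⧸ maximalIdeal A))
    (M : Type u) [AddCommGroup M] [Module A M] [Module.Finite A M] : PM ω e M :=
  Groth.Agent.LDN.devissage_span A (fun M _ _ => PM ω e M)
    (fun M _ _ _ => PM_zero ω e M)
    (fun M₁ M₂ M₃ _ _ _ _ _ _ f g hf hg hfg h1 h3 => PM_ext ω e M₁ M₂ M₃ f g hf hg hfg h1 h3)
    h_res
    (fun M _ _ _ x hx hreg hk => PM_reg ω e hω hE M x hx hreg hk) M

end Assembly

end Groth.Agent.H71.LD
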