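import Mathlib
import Groth.Agent.H71.LD.Main
import Groth.Agent.H71.DK.Fin3
import Groth.Agent.H29.LDBridge
import Groth.Agent.S0323
import Groth.Agent.S0364
import Groth.Agent.H12.DualDepthMain

/-!
# Local duality: the residue field (helper71)
-/

set_option autoImplicit false
universe u v
open CategoryTheory CategoryTheory.Limits Opposite Pretriangulated
attribute [local instance] HasDerivedCategory.standard

namespace Groth.Agent.H71.LD

open Groth.Agent.H12.RGamHDI Groth.Agent.H12.DualDepth Groth.Agent.H71.DKF DerivedCategory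
  IsLocalRing DerivedCategory.TStructure Groth.Agent.H82

variable {A : Type u} [CommRing A] [IsLocalRing A] [IsNoetherianRing A]

lemma bij_of_subsingleton {X Y : Type*} [AddCommGroup X] [Module A X] [AddCommGroup Y]
    [Module A Y] (g : X →ₗ[A] Y) (hX : Subsingleton X) (hY : Subsingleton Y) :
    Function.Bijective g :=
  ⟨fun a b _ => Subsingleton.elim a b, fun y => ⟨0, Subsingleton.elim _ _⟩⟩

theorem eq_zero_of_surj_comp (W : Dual.D A)
    (hW : ∀ i : ℤ, i ≠ 0 → Van W i (ModuleCat.of A (A ⧸ maximalIdeal A)))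
    {N N' : Type u} [AddCommGroup N] [Module A N] [AddCommGroup N'] [Module A N']
    (hN : IsFiniteLength A N) (π : N →ₗ[A] N') (hπ : Function.Surjective π)
    (t : sM (ModuleCat.of A N') ⟶ W⟦(0 : ℤ)⟧)
    (h : (singleFunctor (ModuleCat.{u} A) 0).map (ModuleCat.ofHom π) ≫ t = 0) : t = 0 := by
  have hS := TorFlat.shortExact_of (LinearMap.ker π).subtype π (Submodule.injective_subtype _) hπ
    (LinearMap.exact_subtype_ker_map π)
  have hfl : IsFiniteLength A (LinearMap.ker π) := by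
    rw [isFiniteLength_iff_isNoetherian_isArtinian] at hN ⊢
    obtain ⟨h1, h2⟩ := hN
    exact ⟨inferInstance, inferInstance⟩
  have hvan : Van W (-1) (ModuleCat.of A (LinearMap.ker π)) :=
    van_of_isFiniteLength W hW _ hfl (-1) (by norm_num)
  exact eq_zero_of_comp_g hS W (-1) 0 (by norm_num) hvan t h

theorem ι'_eq_zero (W : Dual.D A)
    (hW : ∀ i : ℤ, i ≠ 0 → Van W i (ModuleCat.of A (A ⧸ maximalIdeal A)))
    (n : ℕ) (y : sM (ModuleCat.of A (A ⧸ maximalIdeal A ^ n)) ⟶ W⟦(0 : ℤ)⟧)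
    (hy : ι' (W⟦(0 : ℤ)⟧) n y = 0) : y = 0 := by
  obtain ⟨m, h, hm⟩ := exists_res_eq_zero' _ n y hy
  refine eq_zero_of_surj_comp W hW (Groth.Agent.H2.Matlis.isFiniteLength_quotient_pow A m)
    (piQ h) ?_ y hm
  intro z
  obtain ⟨a, rfl⟩ := Submodule.Quotient.mk_surjective _ z
  exact ⟨Submodule.Quotient.mk a, rfl⟩

theorem base_case (ω : Dual.D A) (hω : Dual.IsDualizing A ω) (hn : Dual.IsNormalized A ω)
    {E : Type u} [AddCommGroup E] [Module A E] (f : ResidueField A →ₗ[A] E)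
    (hf : InjHull.IsInjectiveHull f)
    (e : HYI (maximalIdeal A) (ω⟦(0 : ℤ)⟧) ≃ₗ[A] E) :
    PM ω e.toLinearMap (A ⧸ maximalIdeal A) := by
  classical
  have hW : ∀ i : ℤ, i ≠ 0 → Van ω i (ModuleCat.of A (A ⧸ maximalIdeal A)) :=
    fun i hi => dualizing_hk ω hn i hi
  obtain ⟨n₀, h1, ⟨e0⟩⟩ := Groth.Agent.S0364.result A ω hω (maximalIdeal A)
  have hn₀ : n₀ = 0 := by
    by_contra hne
    haveI : Subsingleton (Dual.inD A (A ⧸ maximalIdeal A) ⟶ ω⟦n₀⟧) :=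
      (van_iff_subsingleton _ _ _).1 (hW n₀ hne)
    haveI : Subsingleton (A ⧸ maximalIdeal A) := e0.symm.toEquiv.subsingleton
    exact not_subsingleton (A ⧸ maximalIdeal A) inferInstance
  subst hn₀
  haveI hκs : IsSimpleModule A (A ⧸ maximalIdeal A) :=
    isSimpleModule_iff_quot_maximal.mpr ⟨maximalIdeal A, inferInstance, ⟨LinearEquiv.refl A _⟩⟩
  have hκtors : LocCoh.IsPowerTorsion (maximalIdeal A) (A ⧸ maximalIdeal A) := fun y =>
    ⟨1, fun a ha => by rw [pow_one] at ha; exact smul_quot_pow _ a ha y⟩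
  obtain ⟨⟨eH0⟩, hHpos⟩ := Groth.Agent.S0323.result A (maximalIdeal A) (A ⧸ maximalIdeal A) hκtors
  -- the dual side vanishes for `j ≠ 0`
  have htgt : ∀ j : ℤ, j ≠ 0 →
      Subsingleton (((Dual.inD A (A ⧸ maximalIdeal A))⟦j⟧ ⟶ ω⟦(0 : ℤ)⟧) →ₗ[A] E) := by
    intro j hj
    obtain ⟨es⟩ := Groth.Agent.LDS.shiftEquiv A (Dual.inD A (A ⧸ maximalIdeal A)) ω j
    haveI : Subsingleton (Dual.inD A (A ⧸ maximalIdeal A) ⟶ ω⟦-j⟧) :=
      (van_iff_subsingleton _ _ _).1 (hW (-j) (by omega))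
    haveI : Subsingleton ((Dual.inD A (A ⧸ maximalIdeal A))⟦j⟧ ⟶ ω⟦(0 : ℤ)⟧) :=
      es.toEquiv.subsingleton
    refine ⟨fun ψ ψ' => LinearMap.ext fun φ => ?_⟩
    rw [Subsingleton.elim φ 0, map_zero, map_zero]
  intro j
  rcases lt_trichotomy j 0 with hj | hj | hj
  · -- negative shifts
    refine bij_of_subsingleton _ ⟨fun x x' => ?_⟩ (htgt j hj.ne)
    have hz : ∀ z : HYI (maximalIdeal A) ((Dual.inD A (A ⧸ maximalIdeal A))⟦j⟧), z = 0 := by
      intro z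
      obtain ⟨n, y, rfl⟩ := exists_rep' _ z
      haveI : (((singleFunctor (ModuleCat.{u} A) 0).obj
          (ModuleCat.of A (A ⧸ maximalIdeal A)))⟦j⟧).IsGE (-j) :=
        t.isGE_shift _ 0 j (-j) (by omega)
      have hy : y = 0 := t.zero_of_isLE_of_isGE y 0 (-j) (by omega) inferInstance inferInstance
      rw [hy, map_zero]
    rw [hz x, hz x']
  · -- the essential case
    subst hj
    obtain ⟨eB⟩ := Groth.Agent.LDB.bridge A (maximalIdeal A) (A ⧸ maximalIdeal A) 0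
    have eB' : LocCoh.H (maximalIdeal A) 0 (A ⧸ maximalIdeal A) ≃ₗ[A]
        HYI (maximalIdeal A) ((Dual.inD A (A ⧸ maximalIdeal A))⟦(0 : ℤ)⟧) := eB
    haveI hs1 : IsSimpleModule A
        (HYI (maximalIdeal A) ((Dual.inD A (A ⧸ maximalIdeal A))⟦(0 : ℤ)⟧)) :=
      IsSimpleModule.congr (eB'.symm ≪≫ₗ eH0)
    let iso0 := (shiftFunctorZero (Dual.D A) ℤ).app (Dual.inD A (A ⧸ maximalIdeal A))
    let eX : ((Dual.inD A (A ⧸ maximalIdeal A))⟦(0 : ℤ)⟧ ⟶ ω⟦(0 : ℤ)⟧) ≃ₗ[A]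
        (A ⧸ maximalIdeal A) :=
      (Linear.homCongr A iso0 (Iso.refl (ω⟦(0 : ℤ)⟧))) ≪≫ₗ e0
    haveI : IsSimpleModule A ((A ⧸ maximalIdeal A) →ₗ[A] E) :=
      Groth.Agent.H2.Matlis.simple_dual hf (A ⧸ maximalIdeal A)
    haveI hs2 : IsSimpleModule A
        (((Dual.inD A (A ⧸ maximalIdeal A))⟦(0 : ℤ)⟧ ⟶ ω⟦(0 : ℤ)⟧) →ₗ[A] E) :=
      IsSimpleModule.congr (LinearEquiv.congrLeft E A eX)
    refine LinearMap.bijective_of_ne_zero (fun h0 => ?_)
    -- a nonzero map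
    haveI : Nontrivial ((Dual.inD A (A ⧸ maximalIdeal A))⟦(0 : ℤ)⟧ ⟶ ω⟦(0 : ℤ)⟧) :=
      eX.toEquiv.nontrivial
    obtain ⟨φ₀, hφ₀⟩ := exists_ne (0 : (Dual.inD A (A ⧸ maximalIdeal A))⟦(0 : ℤ)⟧ ⟶ ω⟦(0 : ℤ)⟧)
    let π₁ : (A ⧸ maximalIdeal A ^ 1) →ₗ[A] (A ⧸ maximalIdeal A) :=
      Submodule.mapQ (maximalIdeal A ^ 1) (maximalIdeal A) LinearMap.id
        (by rw [pow_one]; exact le_refl _)
    have hπ₁ : Function.Surjective π₁ := by
      intro z
      obtain ⟨a, rfl⟩ := Submodule.Quotient.mk_surjective _ z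
      exact ⟨Submodule.Quotient.mk a, rfl⟩
    let q₁ : sM (ModuleCat.of A (A ⧸ maximalIdeal A ^ 1)) ⟶ Dual.inD A (A ⧸ maximalIdeal A) :=
      (singleFunctor (ModuleCat.{u} A) 0).map (ModuleCat.ofHom π₁)
    have h1' := LinearMap.congr_fun (LinearMap.congr_fun h0
      (ι' ((Dual.inD A (A ⧸ maximalIdeal A))⟦(0 : ℤ)⟧) 1 (q₁ ≫ iso0.inv))) φ₀
    rw [Θ_apply] at h1'
    have h2 : (mapH (maximalIdeal A) φ₀).hom
        (ι' ((Dual.inD A (A ⧸ maximalIdeal A))⟦(0 : ℤ)⟧) 1 (q₁ ≫ iso0.inv)) =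
        ι' (ω⟦(0 : ℤ)⟧) 1 ((q₁ ≫ iso0.inv) ≫ φ₀) := mapH_ι _ _ _ _
    rw [h2] at h1'
    have h3 : ι' (ω⟦(0 : ℤ)⟧) 1 ((q₁ ≫ iso0.inv) ≫ φ₀) = 0 := by
      apply e.injective
      rw [map_zero]
      exact h1'
    have h4 := ι'_eq_zero ω hW 1 _ h3
    rw [Category.assoc] at h4
    have h5 : iso0.inv ≫ φ₀ = 0 :=
      eq_zero_of_surj_comp ω hW (Groth.Agent.H2.Matlis.isFiniteLength_quotient_pow A 1) π₁ hπ₁ _ h4
    apply hφ₀
    rw [← cancel_epi iso0.inv, h5, comp_zero]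
  · -- positive shifts
    obtain ⟨i, rfl⟩ := Int.eq_ofNat_of_zero_le hj.le
    have hi : 0 < i := by exact_mod_cast hj
    obtain ⟨eB⟩ := Groth.Agent.LDB.bridge A (maximalIdeal A) (A ⧸ maximalIdeal A) i
    haveI := hHpos i hi
    exact bij_of_subsingleton _ eB.symm.toEquiv.subsingleton (htgt _ hj.ne')

end Groth.Agent.H71.LD
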