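import Mathlib
import Groth.Agent.H71.LD.BaseK
import Groth.Agent.S0311
import Groth.Agent.H2.Matlis3

/-!
# Local duality (helper71): final statements
-/

set_option autoImplicit false
universe u v
open CategoryTheory CategoryTheory.Limits Opposite Pretriangulated
attribute [local instance] HasDerivedCategory.standard

namespace Groth.Agent.H71.LD

open Groth.Agent.H12.RGamHDI Groth.Agent.H12.DualDepth DerivedCategory IsLocalRing

/-- **Local duality.** -/
theorem local_duality (A : Type u) [CommRing A] [IsLocalRing A] [IsNoetherianRing A]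
    (ω : Dual.D A) (hω : Dual.IsDualizing A ω) (hn : Dual.IsNormalized A ω) (E : Type u)
    [AddCommGroup E] [Module A E] (f : IsLocalRing.ResidueField A →ₗ[A] E)
    (hf : InjHull.IsInjectiveHull f) (M : Type u) [AddCommGroup M] [Module A M]
    [Module.Finite A M] (i : ℕ) :
    Nonempty (LocCoh.H (IsLocalRing.maximalIdeal A) i M ≃ₗ[A]
      ((Dual.inD A M ⟶ ω⟦(-(i : ℤ))⟧) →ₗ[A] E)) := by
  classical
  have hW : ∀ i : ℤ, i ≠ 0 → Van ω i (ModuleCat.of A (A ⧸ maximalIdeal A)) :=
    fun i hi => dualizing_hk ω hn i hi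
  obtain ⟨n₀, h1, ⟨e0⟩⟩ := Groth.Agent.S0364.result A ω hω (maximalIdeal A)
  have hn₀ : n₀ = 0 := by
    by_contra hne
    haveI : Subsingleton (Dual.inD A (A ⧸ maximalIdeal A) ⟶ ω⟦n₀⟧) :=
      (van_iff_subsingleton _ _ _).1 (hW n₀ hne)
    haveI : Subsingleton (A ⧸ maximalIdeal A) := e0.symm.toEquiv.subsingleton
    exact not_subsingleton (A ⧸ maximalIdeal A) inferInstance
  subst hn₀
  haveI hκs : IsSimpleModule A (A ⧸ maximalIdeal A) :=
    isSimpleModule_iff_quot_maximal.mpr ⟨maximalIdeal A, inferInstance, ⟨LinearEquiv.refl A _⟩⟩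
  have hsimple : IsSimpleModule A
      (sM (ModuleCat.of A (A ⧸ maximalIdeal A)) ⟶ ω⟦(0 : ℤ)⟧) := IsSimpleModule.congr e0
  obtain ⟨e⟩ := Groth.Agent.H71.DKF.exists_equiv_HYI ω hW hsimple hf
  haveI : Module.Injective A E := hf.isInjective
  have hE := Groth.Agent.S0311.result A E f hf
  have hres := base_case ω hω hn f hf e
  have hP := PM_all ω e.toLinearMap hω hE hres M
  have hbij := hP (i : ℤ)
  obtain ⟨eB⟩ := Groth.Agent.LDB.bridge A (maximalIdeal A) M i
  obtain ⟨es⟩ := Groth.Agent.LDS.shiftEquiv A (Dual.inD A M) ω (i : ℤ)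
  exact ⟨eB ≪≫ₗ (LinearEquiv.ofBijective _ hbij) ≪≫ₗ (LinearEquiv.congrLeft E A es)⟩

/-- the module of maps `M → ω[-i]` is finite. -/
theorem finite_hom_neg (A : Type u) [CommRing A] [IsNoetherianRing A]
    (ω : Dual.D A) (hω : Dual.IsDualizing A ω) (M : Type u) [AddCommGroup M] [Module A M]
    [Module.Finite A M] (i : ℤ) : Module.Finite A (Dual.inD A M ⟶ ω⟦(-i)⟧) := by
  obtain ⟨es⟩ := Groth.Agent.LDS.shiftEquiv A (Dual.inD A M) ω i
  haveI := Groth.Agent.LDS.finite_hom A ω hω M i
  exact Module.Finite.equiv es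

/-- a small model of a finite module. -/
theorem exists_small_model (A : Type u) [CommRing A] (X : Type v) [AddCommGroup X] [Module A X]
    [Module.Finite A X] :
    ∃ (X' : Type u) (_ : AddCommGroup X') (_ : Module A X') (_ : Module.Finite A X'),
      Nonempty (X ≃ₗ[A] X') := by
  haveI : Small.{u} X := Module.Finite.small A X
  exact ⟨Shrink.{u} X, inferInstance, inferInstance, inferInstance,
    ⟨(Shrink.linearEquiv A X).symm⟩⟩

end Groth.Agent.H71.LD
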