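import Mathlib
import Groth.Agent.H2.Matlis1
import Groth.Agent.H2.Matlis7
import Groth.Agent.S0311

/-!
# The Matlis bidual of a finite module is its completion (helper71)
-/

set_option autoImplicit false
universe u

namespace Groth.Agent.H71.LD

open IsLocalRing

section Bidual

variable {A : Type u} [CommRing A] [IsLocalRing A] [IsNoetherianRing A]
  {E : Type u} [AddCommGroup E] [Module A E] {f : ResidueField A →ₗ[A] E}
  (hf : InjHull.IsInjectiveHull f)
  (X : Type u) [AddCommGroup X] [Module A X] [Module.Finite A X]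

lemma isFiniteLength_Qn (n : ℕ) :
    IsFiniteLength A (X ⧸ (maximalIdeal A ^ n • ⊤ : Submodule A X)) :=
  Groth.Agent.H2.Matlis.isFiniteLength_of_finite_of_pow_smul _ n (fun a ha x => by
    obtain ⟨y, rfl⟩ := Submodule.Quotient.mk_surjective _ x
    rw [← Submodule.Quotient.mk_smul, Submodule.Quotient.mk_eq_zero]
    exact Submodule.smul_mem_smul ha Submodule.mem_top)

/-- Matlis duality on the quotients. -/
noncomputable def evEquiv (n : ℕ) : (X ⧸ (maximalIdeal A ^ n • ⊤ : Submodule A X)) ≃ₗ[A]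
    (((X ⧸ (maximalIdeal A ^ n • ⊤ : Submodule A X)) →ₗ[A] E) →ₗ[A] E) :=
  LinearEquiv.ofBijective LinearMap.applyₗ
    (Groth.Agent.H2.Matlis.applyₗ_bijective hf _ (isFiniteLength_Qn X n))

lemma evEquiv_apply (n : ℕ) (y : X ⧸ (maximalIdeal A ^ n • ⊤ : Submodule A X))
    (χ : (X ⧸ (maximalIdeal A ^ n • ⊤ : Submodule A X)) →ₗ[A] E) :
    evEquiv hf X n y χ = χ y := rfl

/-- restriction of a functional. -/
noncomputable def resn (n : ℕ) : ((X →ₗ[A] E) →ₗ[A] E) →ₗ[A]
    (((X ⧸ (maximalIdeal A ^ n • ⊤ : Submodule A X)) →ₗ[A] E) →ₗ[A] E) :=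
  LinearMap.lcomp A E (LinearMap.lcomp A E (Submodule.mkQ _))

omit [IsLocalRing A] [IsNoetherianRing A] [Module.Finite A X] in
lemma resn_apply [IsLocalRing A] (n : ℕ) (F : (X →ₗ[A] E) →ₗ[A] E)
    (χ : (X ⧸ (maximalIdeal A ^ n • ⊤ : Submodule A X)) →ₗ[A] E) :
    resn (E := E) X n F χ = F (χ ∘ₗ Submodule.mkQ _) := rfl

/-- the components of the comparison map. -/
noncomputable def Ψn (n : ℕ) : ((X →ₗ[A] E) →ₗ[A] E) →ₗ[A]
    (X ⧸ (maximalIdeal A ^ n • ⊤ : Submodule A X)) :=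
  (evEquiv hf X n).symm.toLinearMap ∘ₗ resn X n

lemma evEquiv_Ψn (n : ℕ) (F : (X →ₗ[A] E) →ₗ[A] E) :
    evEquiv hf X n (Ψn hf X n F) = resn X n F :=
  (evEquiv hf X n).apply_symm_apply _

lemma Ψn_compat {m n : ℕ} (hmn : m ≤ n) :
    AdicCompletion.transitionMap (maximalIdeal A) X hmn ∘ₗ Ψn hf X n = Ψn hf X m := by
  refine LinearMap.ext fun F => ?_
  apply (evEquiv hf X m).injective
  refine LinearMap.ext fun χ => ?_
  rw [LinearMap.comp_apply, evEquiv_apply, evEquiv_Ψn, resn_apply]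
  have h1 : χ (AdicCompletion.transitionMap (maximalIdeal A) X hmn (Ψn hf X n F)) =
      evEquiv hf X n (Ψn hf X n F)
        (χ ∘ₗ AdicCompletion.transitionMap (maximalIdeal A) X hmn) := rfl
  rw [h1, evEquiv_Ψn, resn_apply]
  congr 1

/-- the comparison map from the bidual to the completion. -/
noncomputable def Ψtot : ((X →ₗ[A] E) →ₗ[A] E) →ₗ[A] AdicCompletion (maximalIdeal A) X :=
  AdicCompletion.lift (maximalIdeal A) (fun n => Ψn hf X n) (fun hmn => Ψn_compat hf X hmn)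

include hf in
/-- every functional into `E` kills a power of the maximal ideal. -/
lemma exists_kill (ψ : X →ₗ[A] E) :
    ∃ n : ℕ, ∀ y ∈ (maximalIdeal A ^ n • ⊤ : Submodule A X), ψ y = 0 := by
  classical
  have hE := Groth.Agent.S0311.result A E f hf
  obtain ⟨s, hs⟩ := (Module.Finite.fg_top : (⊤ : Submodule A X).FG)
  choose n hn using fun t => hE (ψ t)
  refine ⟨s.sup n, fun y hy => ?_⟩
  have hsm : ∀ a ∈ maximalIdeal A ^ (s.sup n), a • ψ = 0 := by
    intro a ha
    refine LinearMap.ext_on hs (fun t ht => ?_)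
    rw [LinearMap.smul_apply, LinearMap.zero_apply]
    exact hn t a (Ideal.pow_le_pow_right (Finset.le_sup ht) ha)
  refine Submodule.smul_induction_on hy (fun a ha x _ => ?_) (fun x y hx hy => ?_)
  · rw [map_smul, ← LinearMap.smul_apply, hsm a ha, LinearMap.zero_apply]
  · rw [map_add, hx, hy, add_zero]

lemma Ψtot_injective : Function.Injective (Ψtot hf X) := by
  rw [injective_iff_map_eq_zero]
  intro F hF
  refine LinearMap.ext fun ψ => ?_
  obtain ⟨n, hn⟩ := exists_kill hf X ψ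
  have h1 : Ψn hf X n F = 0 := by
    have := congrArg (fun z => z.val n) hF
    exact this
  have h2 : resn X n F = 0 := by rw [← evEquiv_Ψn hf, h1, map_zero]
  have hle : (maximalIdeal A ^ n • ⊤ : Submodule A X) ≤ LinearMap.ker ψ := fun y hy => hn y hy
  have h3 : ψ = (Submodule.liftQ _ ψ hle) ∘ₗ Submodule.mkQ _ := (Submodule.liftQ_mkQ _ ψ hle).symm
  have h4 := LinearMap.congr_fun h2 (Submodule.liftQ _ ψ hle)
  rw [resn_apply, ← h3] at h4
  rw [h4, LinearMap.zero_apply, LinearMap.zero_apply]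

lemma Ψtot_surjective : Function.Surjective (Ψtot hf X) := by
  classical
  intro xhat
  obtain ⟨a, rfl⟩ := AdicCompletion.mk_surjective (maximalIdeal A) X xhat
  -- the functional
  let nψ : (X →ₗ[A] E) → ℕ := fun ψ => Nat.find (exists_kill hf X ψ)
  have hnψ : ∀ ψ : X →ₗ[A] E, ∀ y ∈ (maximalIdeal A ^ (nψ ψ) • ⊤ : Submodule A X), ψ y = 0 :=
    fun ψ => Nat.find_spec (exists_kill hf X ψ)
  have key : ∀ (ψ : X →ₗ[A] E) (n : ℕ),
      (∀ y ∈ (maximalIdeal A ^ n • ⊤ : Submodule A X), ψ y = 0) → ψ (a (nψ ψ)) = ψ (a n) := by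
    intro ψ n hn
    have hle : nψ ψ ≤ n := Nat.find_min' (exists_kill hf X ψ) hn
    have h1 := a.property hle
    have h2 : a (nψ ψ) - a n ∈ (maximalIdeal A ^ (nψ ψ) • ⊤ : Submodule A X) :=
      (SModEq.sub_mem).1 h1
    have h3 := hnψ ψ _ h2
    rw [map_sub, sub_eq_zero] at h3
    exact h3
  have mono : ∀ (ψ : X →ₗ[A] E) (n N : ℕ), n ≤ N →
      (∀ y ∈ (maximalIdeal A ^ n • ⊤ : Submodule A X), ψ y = 0) →
      (∀ y ∈ (maximalIdeal A ^ N • ⊤ : Submodule A X), ψ y = 0) := by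
    intro ψ n N hnN h y hy
    exact h y (Submodule.smul_mono_left (Ideal.pow_le_pow_right hnN) hy)
  let F : (X →ₗ[A] E) →ₗ[A] E :=
    { toFun := fun ψ => ψ (a (nψ ψ))
      map_add' := by
        intro ψ ψ'
        have h1 := mono ψ _ (max (nψ ψ) (nψ ψ')) (le_max_left _ _) (hnψ ψ)
        have h2 := mono ψ' _ (max (nψ ψ) (nψ ψ')) (le_max_right _ _) (hnψ ψ')
        have h3 : ∀ y ∈ (maximalIdeal A ^ (max (nψ ψ) (nψ ψ')) • ⊤ : Submodule A X),
            (ψ + ψ') y = 0 := by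
          intro y hy
          rw [LinearMap.add_apply, h1 y hy, h2 y hy, add_zero]
        show (ψ + ψ') (a (nψ (ψ + ψ'))) = ψ (a (nψ ψ)) + ψ' (a (nψ ψ'))
        rw [key _ _ h3, key _ _ h1, key _ _ h2, LinearMap.add_apply]
      map_smul' := by
        intro c ψ
        have h3 : ∀ y ∈ (maximalIdeal A ^ (nψ ψ) • ⊤ : Submodule A X), (c • ψ) y = 0 := by
          intro y hy
          rw [LinearMap.smul_apply, hnψ ψ y hy, smul_zero]
        show (c • ψ) (a (nψ (c • ψ))) = c • ψ (a (nψ ψ))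
        rw [key _ _ h3, LinearMap.smul_apply] }
  have hF : ∀ (ψ : X →ₗ[A] E) (n : ℕ),
      (∀ y ∈ (maximalIdeal A ^ n • ⊤ : Submodule A X), ψ y = 0) → F ψ = ψ (a n) :=
    fun ψ n hn => key ψ n hn
  refine ⟨F, ?_⟩
  refine AdicCompletion.ext (fun n => ?_)
  show Ψn hf X n F = Submodule.mkQ _ (a n)
  apply (evEquiv hf X n).injective
  rw [evEquiv_Ψn]
  refine LinearMap.ext fun χ => ?_
  rw [resn_apply, evEquiv_apply]
  have hk : ∀ y ∈ (maximalIdeal A ^ n • ⊤ : Submodule A X), (χ ∘ₗ Submodule.mkQ _) y = 0 := by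
    intro y hy
    rw [LinearMap.comp_apply, Submodule.mkQ_apply, (Submodule.Quotient.mk_eq_zero _).2 hy,
      map_zero]
  rw [hF _ n hk]
  rfl

/-- **Matlis bidual = completion** for finite modules over a Noetherian local ring. -/
noncomputable def bidualEquiv :
    ((X →ₗ[A] E) →ₗ[A] E) ≃ₗ[A] AdicCompletion (maximalIdeal A) X :=
  LinearEquiv.ofBijective (Ψtot hf X) ⟨Ψtot_injective hf X, Ψtot_surjective hf X⟩

end Bidual

end Groth.Agent.H71.LD
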