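import Mathlib
import Groth.Agent.H71.LD.Final
import Groth.Agent.H35.Devissage
import Groth.Agent.H12.DualLoc
import Groth.Agent.H12.FinExt
import Groth.Agent.S12537

/-!
# Uniqueness of dualizing complexes over a local ring (helper71)
-/

set_option autoImplicit false
universe u v
open CategoryTheory CategoryTheory.Limits Opposite Pretriangulated
attribute [local instance] HasDerivedCategory.standard

namespace Groth.Agent.H71.LD

open Groth.Agent.H12.RGamHDI Groth.Agent.H12.DualDepth Groth.Agent.H12.DualLoc DerivedCategory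
  IsLocalRing

variable {A : Type u} [CommRing A] [IsLocalRing A] [IsNoetherianRing A]

/-- `H^0_m(ω) ≅ E` for a normalized dualizing complex. -/
theorem exists_e (ω : Dual.D A) (hω : Dual.IsDualizing A ω) (hn : Dual.IsNormalized A ω)
    {E : Type u} [AddCommGroup E] [Module A E] (f : ResidueField A →ₗ[A] E)
    (hf : InjHull.IsInjectiveHull f) :
    Nonempty (HYI (maximalIdeal A) (ω⟦(0 : ℤ)⟧) ≃ₗ[A] E) := by
  classical
  have hW : ∀ i : ℤ, i ≠ 0 → Van ω i (ModuleCat.of A (A ⧸ maximalIdeal A)) :=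
    fun i hi => dualizing_hk ω hn i hi
  obtain ⟨n₀, h1, ⟨e0⟩⟩ := Groth.Agent.S0364.result A ω hω (maximalIdeal A)
  have hn₀ : n₀ = 0 := by
    by_contra hne
    haveI : Subsingleton (Dual.inD A (A ⧸ maximalIdeal A) ⟶ ω⟦n₀⟧) :=
      (van_iff_subsingleton _ _ _).1 (hW n₀ hne)
    haveI : Subsingleton (A ⧸ maximalIdeal A) := e0.symm.toEquiv.subsingleton
    exact not_subsingleton (A ⧸ maximalIdeal A) inferInstance
  subst hn₀
  haveI hκs : IsSimpleModule A (A ⧸ maximalIdeal A) :=
    isSimpleModule_iff_quot_maximal.mpr ⟨maximalIdeal A, inferInstance, ⟨LinearEquiv.refl A _⟩⟩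
  have hsimple : IsSimpleModule A
      (sM (ModuleCat.of A (A ⧸ maximalIdeal A)) ⟶ ω⟦(0 : ℤ)⟧) := IsSimpleModule.congr e0
  exact Groth.Agent.H71.DKF.exists_equiv_HYI ω hW hsimple hf

/-- every dualizing complex over a local ring has a normalized shift. -/
theorem exists_normalized_shift (ω : Dual.D A) (hω : Dual.IsDualizing A ω) :
    ∃ n : ℤ, Dual.IsNormalized A (ω⟦n⟧) := by
  obtain ⟨n, h1, -⟩ := Groth.Agent.S0364.result A ω hω (maximalIdeal A)
  refine ⟨n, fun i hi => ?_⟩
  have h2 : Van (ω⟦n⟧) i (ModuleCat.of A (A ⧸ maximalIdeal A)) :=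
    (van_shift_iff ω n i (n + i) rfl _).2 ((van_iff_subsingleton _ _ _).2 (h1 (n + i) (by omega)))
  exact (van_iff_subsingleton _ _ _).1 (van_of_iso residueIso.symm h2)

/-- cohomology of a dualizing complex is bounded. -/
theorem bounded_of_dualizing (ω : Dual.D A) (hω : Dual.IsDualizing A ω) :
    ∃ c d : ℤ, ∀ i : ℤ, (i < c ∨ d < i) →
      IsZero ((homologyFunctor (ModuleCat.{u} A) i).obj ω) := by
  obtain ⟨a, b, hab⟩ := hω.finite_injective_dimension
  refine ⟨a, b, fun i hi => isZero_homology_of_van ω i ?_⟩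
  rw [van_iff_subsingleton]
  exact hab A i hi

/-- finiteness of maps into a dualizing complex. -/
theorem finite_hom_dualizing (ω : Dual.D A) (hω : Dual.IsDualizing A ω) (K : Dual.D A)
    (hK : ∀ i : ℤ, Module.Finite A ((homologyFunctor (ModuleCat.{u} A) i).obj K)) (i : ℤ) :
    Module.Finite A (K ⟶ ω⟦i⟧) := by
  obtain ⟨a, b, hab⟩ := hω.finite_injective_dimension
  have hvan : ∀ (F : ModuleCat.{u} A) (i : ℤ), (i < a ∨ max a b < i) →
      ∀ φ : (DerivedCategory.singleFunctor (ModuleCat.{u} A) 0).obj F ⟶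
        (shiftFunctor (DerivedCategory (ModuleCat.{u} A)) i).obj ω, φ = 0 := by
    intro F i hi φ
    haveI := hab F i (by
      rcases hi with h | h
      · exact Or.inl h
      · exact Or.inr (lt_of_le_of_lt (le_max_right a b) h))
    exact Subsingleton.elim (α := Dual.inD A F ⟶ ω⟦i⟧) φ 0
  obtain ⟨J, hJinj, hJz, ⟨eJ⟩⟩ :=
    (Groth.Agent.S12537.result (ModuleCat.{u} A) ω a (max a b) (le_max_left a b)).1 hvan
  have hinj : ∀ i : ℤ, Module.Injective A (J.X i) := fun i => by
    haveI := hJinj i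
    exact Module.injective_module_of_injective_object A (J.X i)
  exact Groth.Agent.H12.FinExt.main K ω hK hω.finite_cohomology J a (max a b) hJz hinj eJ i

section PB

variable (ω : Dual.D A) {E : Type u} [AddCommGroup E] [Module A E]
  (e : HYI (maximalIdeal A) (ω⟦(0 : ℤ)⟧) →ₗ[A] E)

/-- the duality property for bounded complexes with finite cohomology. -/
theorem P_of_bounded [Module.Injective A E] (hω : Dual.IsDualizing A ω)
    (hE : LocCoh.IsPowerTorsion (maximalIdeal A) E)
    (h_res : PM ω e (A ⧸ maximalIdeal A)) (K : Dual.D A)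
    (hfin : ∀ i : ℤ, Module.Finite A ((homologyFunctor (ModuleCat.{u} A) i).obj K))
    (c d : ℤ) (hbdd : ∀ i : ℤ, (i < c ∨ d < i) →
      IsZero ((homologyFunctor (ModuleCat.{u} A) i).obj K)) :
    P (maximalIdeal A) (ω⟦(0 : ℤ)⟧) e K := by
  have hPr : Groth.Agent.H35.Devissage.IsExtClosed (P (maximalIdeal A) (ω⟦(0 : ℤ)⟧) e) :=
    ⟨fun i h => P_iso i h, fun h => P_of_isZero h, fun T hT h1 h3 => P_middle T hT h1 h3⟩
  refine Groth.Agent.H35.Devissage.of_homology hPr c (d - c + 1).toNat K d hbdd (by omega)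
    (fun i => ?_)
  haveI := hfin i
  have h0 : P (maximalIdeal A) (ω⟦(0 : ℤ)⟧) e
      (Dual.inD A ((homologyFunctor (ModuleCat.{u} A) i).obj K)) :=
    PM_all ω e hω hE h_res _
  have iso : ((singleFunctor (ModuleCat.{u} A) 0).obj
      ((homologyFunctor (ModuleCat.{u} A) i).obj K))⟦-i⟧ ≅
      (singleFunctor (ModuleCat.{u} A) i).obj ((homologyFunctor (ModuleCat.{u} A) i).obj K) :=
    ((singleFunctors (ModuleCat.{u} A)).shiftIso (-i) i 0 (by omega)).app _
  exact P_iso iso (P_shift h0 (-i))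

end PB

end Groth.Agent.H71.LD
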