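import Mathlib
import Groth.Agent.H71.LD.Uniq

/-!
# Uniqueness of dualizing complexes over a local ring II (helper71)
-/

set_option autoImplicit false
universe u v
open CategoryTheory CategoryTheory.Limits Opposite Pretriangulated
attribute [local instance] HasDerivedCategory.standard

namespace Groth.Agent.H71.LD

open Groth.Agent.H12.RGamHDI Groth.Agent.H12.DualDepth Groth.Agent.H12.DualLoc DerivedCategory
  IsLocalRing

variable {A : Type u} [CommRing A] [IsLocalRing A] [IsNoetherianRing A]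

/-- the statement of the rank-one lemma (piece U5). -/
def U5Stmt (A : Type u) [CommRing A] [IsLocalRing A] [IsNoetherianRing A] (E : Type u)
    [AddCommGroup E] [Module A E] : Prop :=
  ∀ (X : Type u) [AddCommGroup X] [Module A X] [Module.Finite A X],
    ((X →ₗ[A] E) ≃ₗ[A] E) → ∃ x : X, Function.Bijective (LinearMap.toSpanSingleton A X x)

/-- for normalized dualizing complexes `ω`, `ω'` there is a map `ω' → ω` inducing a bijection
on `H^0_m`. -/
theorem exists_mapH_bijective (ω ω' : Dual.D A) (hω : Dual.IsDualizing A ω)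
    (hn : Dual.IsNormalized A ω) (hω' : Dual.IsDualizing A ω') (hn' : Dual.IsNormalized A ω')
    {E : Type u} [AddCommGroup E] [Module A E] (f : ResidueField A →ₗ[A] E)
    (hf : InjHull.IsInjectiveHull f) (hU5 : U5Stmt A E) :
    ∃ φ : ω'⟦(0 : ℤ)⟧ ⟶ ω⟦(0 : ℤ)⟧, Function.Bijective (mapH (maximalIdeal A) φ).hom := by
  classical
  obtain ⟨e⟩ := exists_e ω hω hn f hf
  obtain ⟨e'⟩ := exists_e ω' hω' hn' f hf
  haveI : Module.Injective A E := hf.isInjective
  have hE := Groth.Agent.S0311.result A E f hf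
  have hres := base_case ω hω hn f hf e
  obtain ⟨c, d, hbdd⟩ := bounded_of_dualizing ω' hω'
  have hP := P_of_bounded ω e.toLinearMap hω hE hres ω' hω'.finite_cohomology c d hbdd
  have hbij := hP 0
  -- finiteness
  haveI hfinX : Module.Finite A (ω'⟦(0 : ℤ)⟧ ⟶ ω⟦(0 : ℤ)⟧) :=
    Groth.Agent.H12.FinExt.finite_hom_of_iso
      ((shiftFunctorZero (Dual.D A) ℤ).app ω').symm (Iso.refl _)
      (finite_hom_dualizing ω hω ω' hω'.finite_cohomology 0)
  obtain ⟨X', _, _, _, ⟨eX⟩⟩ := exists_small_model A (ω'⟦(0 : ℤ)⟧ ⟶ ω⟦(0 : ℤ)⟧)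
  have eD : (X' →ₗ[A] E) ≃ₗ[A] E :=
    (LinearEquiv.congrLeft E A eX.symm) ≪≫ₗ (LinearEquiv.ofBijective _ hbij).symm ≪≫ₗ e'
  obtain ⟨x', hx'⟩ := hU5 X' eD
  refine ⟨eX.symm x', ?_⟩
  -- `X` is free on `φ`
  have hφ : Function.Bijective (LinearMap.toSpanSingleton A _ (eX.symm x')) := by
    have h1 : LinearMap.toSpanSingleton A _ (eX.symm x') =
        eX.symm.toLinearMap ∘ₗ LinearMap.toSpanSingleton A X' x' := by
      refine LinearMap.ext fun a => ?_
      simp [LinearMap.toSpanSingleton_apply]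
    rw [h1]
    exact eX.symm.bijective.comp hx'
  let g : A ≃ₗ[A] (ω'⟦(0 : ℤ)⟧ ⟶ ω⟦(0 : ℤ)⟧) := LinearEquiv.ofBijective _ hφ
  have hg1 : g 1 = eX.symm x' := by
    show LinearMap.toSpanSingleton A _ (eX.symm x') 1 = _
    rw [LinearMap.toSpanSingleton_apply, one_smul]
  -- evaluation at `φ` is bijective
  let ev : ((ω'⟦(0 : ℤ)⟧ ⟶ ω⟦(0 : ℤ)⟧) →ₗ[A] E) ≃ₗ[A] E :=
    (LinearEquiv.congrLeft E A g.symm) ≪≫ₗ (LinearMap.ringLmapEquivSelf A A E)
  have hev : ∀ ψ : (ω'⟦(0 : ℤ)⟧ ⟶ ω⟦(0 : ℤ)⟧) →ₗ[A] E, ev ψ = ψ (eX.symm x') := by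
    intro ψ
    show (ψ ∘ₗ g.toLinearMap) 1 = _
    rw [LinearMap.comp_apply]
    exact congrArg ψ hg1
  have hcomp : ∀ x, e ((mapH (maximalIdeal A) (eX.symm x')).hom x) =
      ev (Θ (maximalIdeal A) (ω⟦(0 : ℤ)⟧) e.toLinearMap (ω'⟦(0 : ℤ)⟧) x) := by
    intro x
    rw [hev]
    rfl
  have h2 : Function.Bijective (fun x => e ((mapH (maximalIdeal A) (eX.symm x')).hom x)) := by
    have : (fun x => e ((mapH (maximalIdeal A) (eX.symm x')).hom x)) =
        ev ∘ (Θ (maximalIdeal A) (ω⟦(0 : ℤ)⟧) e.toLinearMap (ω'⟦(0 : ℤ)⟧)) := by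
      funext x
      exact hcomp x
    rw [this]
    exact ev.bijective.comp hbij
  exact (Function.Bijective.of_comp_iff' e.bijective _).1 h2

/-- an element acting bijectively on `E` is a unit. -/
theorem isUnit_of_smul_injective {E : Type u} [AddCommGroup E] [Module A E]
    (f : ResidueField A →ₗ[A] E) (hf : InjHull.IsInjectiveHull f) (a : A)
    (ha : Function.Injective (fun z : E => a • z)) : IsUnit a := by
  by_contra hna
  have ham : a ∈ maximalIdeal A := (IsLocalRing.mem_maximalIdeal a).2 hna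
  have h1 : a • f 1 = 0 := by
    rw [← map_smul]
    have : a • (1 : ResidueField A) = 0 := by
      rw [Algebra.smul_def, mul_one]
      exact (IsLocalRing.residue_eq_zero_iff a).2 ham
    rw [this, map_zero]
  have h2 : f 1 = 0 := ha (by simpa using h1)
  have h3 : (1 : ResidueField A) = 0 := hf.injective (h2.trans (map_zero f).symm)
  exact one_ne_zero h3

end Groth.Agent.H71.LD
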