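import Mathlib
import Groth.Agent.H71.LD.Uniq2
import Groth.Agent.S0299

/-!
# Uniqueness of dualizing complexes over a local ring III (helper71)
-/

set_option autoImplicit false
universe u v
open CategoryTheory CategoryTheory.Limits Opposite Pretriangulated
attribute [local instance] HasDerivedCategory.standard

namespace Groth.Agent.H71.LD

open Groth.Agent.H12.RGamHDI Groth.Agent.H12.DualDepth Groth.Agent.H12.DualLoc DerivedCategory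
  IsLocalRing

variable {A : Type u} [CommRing A] [IsLocalRing A] [IsNoetherianRing A]

omit [IsLocalRing A] [IsNoetherianRing A] in
theorem end_eq_smul (ω : Dual.D A) (hω : Dual.IsDualizing A ω)
    (g : ω⟦(0 : ℤ)⟧ ⟶ ω⟦(0 : ℤ)⟧) : ∃ a : A, g = a • 𝟙 _ := by
  let i0 := (shiftFunctorZero (Dual.D A) ℤ).app ω
  obtain ⟨a, ha⟩ := hω.toEnd_bijective.2 (i0.inv ≫ g ≫ i0.hom)
  refine ⟨a, ?_⟩
  have ha' : a • 𝟙 ω = i0.inv ≫ g ≫ i0.hom := ha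
  have h1 : g = i0.hom ≫ (i0.inv ≫ g ≫ i0.hom) ≫ i0.inv := by
    simp
  rw [h1, ← ha', Linear.smul_comp, Linear.comp_smul]
  congr 1
  have h2 : 𝟙 ω ≫ i0.inv = i0.inv := Category.id_comp _
  rw [h2, i0.hom_inv_id]

theorem smul_injective_of (ω ω' : Dual.D A) (hω' : Dual.IsDualizing A ω')
    (hn' : Dual.IsNormalized A ω') {E : Type u} [AddCommGroup E] [Module A E]
    (f : ResidueField A →ₗ[A] E) (hf : InjHull.IsInjectiveHull f)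
    (φ : ω'⟦(0 : ℤ)⟧ ⟶ ω⟦(0 : ℤ)⟧) (ψ : ω⟦(0 : ℤ)⟧ ⟶ ω'⟦(0 : ℤ)⟧)
    (hφ : Function.Bijective (mapH (maximalIdeal A) φ).hom)
    (hψ : Function.Bijective (mapH (maximalIdeal A) ψ).hom) (a : A)
    (ha : φ ≫ ψ = a • 𝟙 _) : IsUnit a := by
  obtain ⟨e'⟩ := exists_e ω' hω' hn' f hf
  apply isUnit_of_smul_injective f hf a
  have h1 : Function.Injective (mapH (maximalIdeal A) (φ ≫ ψ)).hom := by
    intro x x' hxx
    rw [mapH_comp, mapH_comp] at hxx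
    exact hφ.injective (hψ.injective hxx)
  intro z z' hzz
  obtain ⟨x, rfl⟩ := e'.surjective z
  obtain ⟨x', rfl⟩ := e'.surjective z'
  have h2 : a • x = a • x' := e'.injective (by rw [map_smul, map_smul]; exact hzz)
  have h3 : (mapH (maximalIdeal A) (φ ≫ ψ)).hom x = (mapH (maximalIdeal A) (φ ≫ ψ)).hom x' := by
    rw [ha, mapH_smul, mapH_id, mapH_smul, mapH_id, h2]
  rw [h1 h3]

theorem iso_of_normalized (ω ω' : Dual.D A) (hω : Dual.IsDualizing A ω)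
    (hn : Dual.IsNormalized A ω) (hω' : Dual.IsDualizing A ω') (hn' : Dual.IsNormalized A ω')
    {E : Type u} [AddCommGroup E] [Module A E] (f : ResidueField A →ₗ[A] E)
    (hf : InjHull.IsInjectiveHull f) (hU5 : U5Stmt A E) :
    Nonempty (ω'⟦(0 : ℤ)⟧ ≅ ω⟦(0 : ℤ)⟧) := by
  obtain ⟨φ, hφ⟩ := exists_mapH_bijective ω ω' hω hn hω' hn' f hf hU5
  obtain ⟨ψ, hψ⟩ := exists_mapH_bijective ω' ω hω' hn' hω hn f hf hU5
  obtain ⟨a, ha⟩ := end_eq_smul ω' hω' (φ ≫ ψ)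
  obtain ⟨b, hb⟩ := end_eq_smul ω hω (ψ ≫ φ)
  have hau : IsUnit a := smul_injective_of ω ω' hω' hn' f hf φ ψ hφ hψ a ha
  have hbu : IsUnit b := smul_injective_of ω' ω hω hn f hf ψ φ hψ hφ b hb
  obtain ⟨a', rfl⟩ := hau
  obtain ⟨b', rfl⟩ := hbu
  have hr : φ ≫ (((a'⁻¹ : Aˣ) : A) • ψ) = 𝟙 _ := by
    rw [Linear.comp_smul, ha, smul_smul, Units.inv_mul, one_smul]
  have hl : (((b'⁻¹ : Aˣ) : A) • ψ) ≫ φ = 𝟙 _ := by
    rw [Linear.smul_comp, hb, smul_smul, Units.inv_mul, one_smul]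
  have hrl : ((a'⁻¹ : Aˣ) : A) • ψ = ((b'⁻¹ : Aˣ) : A) • ψ := by
    calc ((a'⁻¹ : Aˣ) : A) • ψ = 𝟙 _ ≫ (((a'⁻¹ : Aˣ) : A) • ψ) := (Category.id_comp _).symm
      _ = ((((b'⁻¹ : Aˣ) : A) • ψ) ≫ φ) ≫ (((a'⁻¹ : Aˣ) : A) • ψ) := by rw [hl]
      _ = (((b'⁻¹ : Aˣ) : A) • ψ) ≫ (φ ≫ (((a'⁻¹ : Aˣ) : A) • ψ)) := Category.assoc _ _ _
      _ = ((b'⁻¹ : Aˣ) : A) • ψ := by rw [hr, Category.comp_id]
  exact ⟨⟨φ, ((a'⁻¹ : Aˣ) : A) • ψ, hr, by rw [hrl]; exact hl⟩⟩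

/-- **Uniqueness of dualizing complexes over a Noetherian local ring**, modulo the rank-one
lemma. -/
theorem uniqueness (ω ω' : Dual.D A) (hω : Dual.IsDualizing A ω) (hω' : Dual.IsDualizing A ω')
    (hU5 : ∀ (E : Type u) [AddCommGroup E] [Module A E] (f : ResidueField A →ₗ[A] E),
      InjHull.IsInjectiveHull f → U5Stmt A E) :
    ∃ n : ℤ, Nonempty (ω' ≅ ω⟦n⟧) := by
  obtain ⟨E, _, _, f, hf⟩ := Groth.Agent.S0299.result A (ResidueField A)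
  obtain ⟨n, hnn⟩ := exists_normalized_shift ω hω
  obtain ⟨n', hnn'⟩ := exists_normalized_shift ω' hω'
  obtain ⟨i⟩ := iso_of_normalized (ω⟦n⟧) (ω'⟦n'⟧) (isDualizing_shift ω hω n) hnn
    (isDualizing_shift ω' hω' n') hnn' f hf (hU5 E f hf)
  let j : ω'⟦n'⟧ ≅ ω⟦n⟧ :=
    ((shiftFunctorZero (Dual.D A) ℤ).app (ω'⟦n'⟧)).symm ≪≫ i ≪≫
      (shiftFunctorZero (Dual.D A) ℤ).app (ω⟦n⟧)
  refine ⟨n + -n', ⟨?_⟩⟩
  exact ((shiftFunctorCompIsoId (Dual.D A) n' (-n') (by omega)).app ω').symm ≪≫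
    (shiftFunctor (Dual.D A) (-n')).mapIso j ≪≫
    ((shiftFunctorAdd' (Dual.D A) n (-n') (n + -n') rfl).app ω).symm

end Groth.Agent.H71.LD
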